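import Mathlib.LinearAlgebra.ExteriorPower.Basic
import Mathlib.LinearAlgebra.Alternating.Uncurry.Fin
import Mathlib.LinearAlgebra.TensorProduct.Basic

universe u v
open scoped TensorProduct
noncomputable section
namespace Groth.Agent.Lib.ExtRetract89.Alg

variable (R : Type u) [CommRing R] (M : Type v) [AddCommGroup M] [Module R M] (n : ℕ)

/-- Left multiplication. -/
def lmul : M →ₗ[R] ↥(⋀[R]^n M) →ₗ[R] ↥(⋀[R]^(n + 1) M) :=
  exteriorPower.alternatingMapLinearEquiv.toLinearMap ∘ₗ (exteriorPower.ιMulti R (n + 1)).curryLeft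

theorem lmul_apply (e : M) (v : Fin n → M) :
    lmul R M n e (exteriorPower.ιMulti R n v) = exteriorPower.ιMulti R (n + 1) (Matrix.vecCons e v) :=
  exteriorPower.alternatingMapLinearEquiv_apply_ιMulti _ _

/-- The multiplication. -/
def mul : M ⊗[R] ↥(⋀[R]^n M) →ₗ[R] ↥(⋀[R]^(n + 1) M) := TensorProduct.lift (lmul R M n)

/-- `e ↦ (v ↦ e ⊗ ∧v)`. -/
def tin : M →ₗ[R] M [⋀^Fin n]→ₗ[R] (M ⊗[R] ↥(⋀[R]^n M)) where
  toFun e := (TensorProduct.mk R M ↥(⋀[R]^n M) e).compAlternatingMap (exteriorPower.ιMulti R n)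
  map_add' a b := AlternatingMap.ext fun _ => TensorProduct.add_tmul a b _
  map_smul' r a := AlternatingMap.ext fun _ => (TensorProduct.smul_tmul' r a _).symm

/-- The antisymmetrisation. -/
def asym : ↥(⋀[R]^(n + 1) M) →ₗ[R] M ⊗[R] ↥(⋀[R]^n M) :=
  exteriorPower.alternatingMapLinearEquiv (AlternatingMap.alternatizeUncurryFin (tin R M n))

theorem asym_apply (v : Fin (n + 1) → M) : asym R M n (exteriorPower.ιMulti R (n + 1) v) =
    ∑ i : Fin (n + 1), (-1) ^ (i : ℕ) • (v i ⊗ₜ[R] exteriorPower.ιMulti R n (Fin.removeNth i v)) := by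
  rw [asym, exteriorPower.alternatingMapLinearEquiv_apply_ιMulti, AlternatingMap.alternatizeUncurryFin_apply]
  rfl

theorem mul_asym (v : Fin (n + 1) → M) :
    mul R M n (asym R M n (exteriorPower.ιMulti R (n + 1) v)) =
      (n + 1) • exteriorPower.ιMulti R (n + 1) v := by
  rw [asym_apply, map_sum]
  have h := congrArg (fun f => f v)
    (AlternatingMap.alternatizeUncurryFin_curryLeft (exteriorPower.ιMulti R (n + 1) (M := M)))
  refine Eq.trans ?_ h
  rw [AlternatingMap.alternatizeUncurryFin_apply]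
  refine Finset.sum_congr rfl fun i _ => ?_
  rw [map_zsmul]
  congr 1
  exact lmul_apply R M n _ _

section Transport

variable {R M} {n} {A B T : Type v} [AddCommGroup A] [Module R A] [AddCommGroup B] [Module R B]
  [AddCommGroup T] [Module R T]
  (a : A ≃ₗ[R] ↥(⋀[R]^n M)) (b : B ≃ₗ[R] ↥(⋀[R]^(n + 1) M)) (t : M ⊗[R] A ≃ₗ[R] T)

/-- The transported antisymmetrisation. -/
def fwd : B →ₗ[R] T :=
  t.toLinearMap ∘ₗ TensorProduct.map LinearMap.id a.symm.toLinearMap ∘ₗ asym R M n ∘ₗ b.toLinearMap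

/-- The transported multiplication. -/
def bwd : T →ₗ[R] B :=
  b.symm.toLinearMap ∘ₗ mul R M n ∘ₗ TensorProduct.map LinearMap.id a.toLinearMap ∘ₗ t.symm.toLinearMap

theorem fwd_gen (v : Fin (n + 1) → M) : fwd a b t (b.symm (exteriorPower.ιMulti R (n + 1) v)) =
    ∑ i : Fin (n + 1), (-1) ^ (i : ℕ) • t (v i ⊗ₜ a.symm (exteriorPower.ιMulti R n (Fin.removeNth i v))) := by
  simp [fwd, asym_apply]

theorem bwd_gen (e : M) (v : Fin n → M) : bwd a b t (t (e ⊗ₜ a.symm (exteriorPower.ιMulti R n v))) =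
    b.symm (exteriorPower.ιMulti R (n + 1) (Matrix.vecCons e v)) := by
  simp [bwd, mul, lmul_apply]

theorem bwd_fwd (m : B) : bwd a b t (fwd a b t m) = ((n + 1 : ℕ) : R) • m := by
  obtain ⟨x, rfl⟩ := b.symm.surjective m
  have h : mul R M n ∘ₗ asym R M n = ((n + 1 : ℕ) : R) • LinearMap.id := by
    refine exteriorPower.linearMap_ext (AlternatingMap.ext fun v => ?_)
    rw [Nat.cast_smul_eq_nsmul]
    exact mul_asym R M n v
  simp only [bwd, fwd, LinearMap.comp_apply, LinearEquiv.coe_coe, LinearEquiv.apply_symm_apply,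
    LinearEquiv.symm_apply_apply]
  rw [← LinearMap.comp_apply (TensorProduct.map LinearMap.id a.toLinearMap), ← TensorProduct.map_comp,
    LinearEquiv.comp_symm, LinearMap.id_comp, TensorProduct.map_id, LinearMap.id_apply,
    ← LinearMap.comp_apply, h, LinearMap.smul_apply, LinearMap.id_apply, map_smul]

end Transport

end Groth.Agent.Lib.ExtRetract89.Alg
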