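import Groth.Agent.Lib.ExtRetract89.Alg
import Groth.Agent.Lib.Bott.WedgeSES
import Groth.Agent.Lib.Modules.TensorAffine

/-!
# In characteristic prime to `n + 1`, `⋀^{n+1} E` is a retract of `E ⊗ ⋀^n E`
-/

set_option autoImplicit false
set_option linter.style.haveILetI false
set_option maxHeartbeats 400000
universe u

open CategoryTheory CategoryTheory.Limits AlgebraicGeometry Opposite TopologicalSpace
open scoped TensorProduct

noncomputable section

namespace Groth.Agent.Lib.ExtRetract89.Basic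

open Groth.Agent.Lib Groth.Agent.Lib.Bott.WedgeSES
open Groth.Agent.Lib.TensorMod.Dual (rs rf rs_rs rs_smul)

variable {X : Scheme.{u}} {E A B : X.Modules} {n : ℕ}

/-- `PowData` on sections. -/
def sec {i : ℕ} {L : X.Modules} (φ : PowData i E L) (U : X.affineOpens) :
    Γ(L, U.1) ≃ₗ[Γ(X, U.1)] ↥(⋀[Γ(X, U.1)]^i Γ(E, U.1)) := φ U

theorem sec_rs {i : ℕ} {L : X.Modules} {φ : PowData i E L} (hφ : IsCompat φ) (U V : X.affineOpens)
    (h : V.1 ≤ U.1) (v : Fin i → Γ(E, U.1)) :
    rs L h ((sec φ U).symm (exteriorPower.ιMulti _ i v)) =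
      (sec φ V).symm (exteriorPower.ιMulti _ i fun j => rs E h (v j)) := hφ U V h v

variable [E.IsQuasicoherent] [A.IsQuasicoherent]

variable (E A) in
/-- Sections of a tensor product over an affine open. -/
def gam (U : X.affineOpens) : Γ(E, U.1) ⊗[Γ(X, U.1)] Γ(A, U.1) ≃ₗ[Γ(X, U.1)] Γ(CohB1.tensorMod E A, U.1) :=
  LinearEquiv.ofBijective (Modules.TensorAffine.gamma E A U.1) (Modules.TensorAffine.bijective_gamma U.2)

theorem gam_tmul (U : X.affineOpens) (e : Γ(E, U.1)) (a : Γ(A, U.1)) :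
    gam E A U (e ⊗ₜ a) = Modules.TensorSec.tens e a := rfl

variable (φA : PowData n E A) (φB : PowData (n + 1) E B)

/-- The antisymmetrisation on sections. -/
def fwdS (U : X.affineOpens) : Γ(B, U.1) →ₗ[Γ(X, U.1)] Γ(CohB1.tensorMod E A, U.1) :=
  Alg.fwd (sec φA U) (sec φB U) (gam E A U)

/-- The multiplication on sections. -/
def bwdS (U : X.affineOpens) : Γ(CohB1.tensorMod E A, U.1) →ₗ[Γ(X, U.1)] Γ(B, U.1) :=
  Alg.bwd (sec φA U) (sec φB U) (gam E A U)

theorem fwdS_gen (U : X.affineOpens) (v : Fin (n + 1) → Γ(E, U.1)) :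
    fwdS φA φB U ((sec φB U).symm (exteriorPower.ιMulti _ _ v)) = ∑ i : Fin (n + 1), (-1 : ℤ) ^ (i : ℕ) •
      Modules.TensorSec.tens (v i) ((sec φA U).symm (exteriorPower.ιMulti _ n (Fin.removeNth i v))) :=
  Alg.fwd_gen _ _ _ v

theorem bwdS_gen (U : X.affineOpens) (e : Γ(E, U.1)) (v : Fin n → Γ(E, U.1)) :
    bwdS φA φB U (Modules.TensorSec.tens e ((sec φA U).symm (exteriorPower.ιMulti _ n v))) =
      (sec φB U).symm (exteriorPower.ιMulti _ _ (Matrix.vecCons e v)) :=
  Alg.bwd_gen _ _ _ e v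

variable {φA φB} (hA : IsCompat φA) (hB : IsCompat φB)

include hA hB

theorem fwdS_compat (U V : X.affineOpens) (h : V.1 ≤ U.1) (m : Γ(B, U.1)) :
    rs (CohB1.tensorMod E A) h (fwdS φA φB U m) = fwdS φA φB V (rs B h m) := by
  refine compat_of_gen hB (fwdS φA φB) (fun U V h v => ?_) U V h m
  refine (congrArg (rs _ h) (fwdS_gen φA φB U v)).trans (Eq.trans ?_ (fwdS_gen φA φB V _).symm)
  rw [Modules.TensorSec.rs_sum]
  refine Finset.sum_congr rfl fun i _ => ?_
  refine (map_zsmul (((CohB1.tensorMod E A).presheaf.map (homOfLE h).op).hom) _ _).trans ?_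
  refine congrArg (((-1 : ℤ) ^ (i : ℕ)) • ·) ((Modules.TensorSec.rs_tens h _ _).trans ?_)
  exact congrArg (Modules.TensorSec.tens _) (sec_rs hA U V h _)

theorem bwdS_compat (U V : X.affineOpens) (h : V.1 ≤ U.1) (m : Γ(CohB1.tensorMod E A, U.1)) :
    rs B h (bwdS φA φB U m) = bwdS φA φB V (rs (CohB1.tensorMod E A) h m) := by
  obtain ⟨z, rfl⟩ := (gam E A U).surjective m
  induction z using TensorProduct.induction_on with
  | zero => rw [map_zero, map_zero, Modules.TensorSec.rs_zero, Modules.TensorSec.rs_zero, map_zero]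
  | add a b ha hb =>
    rw [map_add, map_add, Modules.TensorSec.rs_add, Modules.TensorSec.rs_add, map_add, ha, hb]
  | tmul e a =>
    obtain ⟨x, rfl⟩ := (sec φA U).symm.surjective a
    rw [gam_tmul, Modules.TensorSec.rs_tens]
    induction x using gen_induction with
    | gen v =>
      rw [bwdS_gen, sec_rs hA, bwdS_gen, sec_rs hB]
      refine congrArg (fun t => (sec φB V).symm (exteriorPower.ιMulti _ _ t)) (funext fun j => ?_)
      refine Fin.cases ?_ (fun j => ?_) j <;> rfl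
    | zero => rw [map_zero, Modules.TensorSec.rs_zero, Modules.TensorSec.tens_zero_right,
        Modules.TensorSec.tens_zero_right, map_zero, map_zero, Modules.TensorSec.rs_zero]
    | add a b ha hb => rw [map_add, Modules.TensorSec.rs_add, Modules.TensorSec.tens_add_right,
        Modules.TensorSec.tens_add_right, map_add, map_add, Modules.TensorSec.rs_add, ha, hb]
    | smul c a ha => rw [map_smul, rs_smul, Modules.TensorSec.tens_smul_right,
        Modules.TensorSec.tens_smul_right, map_smul, map_smul, rs_smul, ha]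

omit hA hB in
theorem exists_retract
    (hA : ExtPow.IsExtPow n E A) (hB : ExtPow.IsExtPow (n + 1) E B)
    (hu : ∀ U : X.affineOpens, IsUnit (((n + 1 : ℕ)) : Γ(X, U.1))) :
    ∃ (s : B ⟶ CohB1.tensorMod E A) (r : CohB1.tensorMod E A ⟶ B), s ≫ r = 𝟙 B := by
  obtain ⟨φA, hφA⟩ := hA
  obtain ⟨φB, hφB⟩ := hB
  obtain ⟨s, hs⟩ := Modules.AffineHom.exists_hom_of_affine (fwdS φA φB) (fwdS_compat hφA hφB)
  obtain ⟨q, hq⟩ := Modules.AffineHom.exists_hom_of_affine (bwdS φA φB) (bwdS_compat hφA hφB)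
  have hgf : ∀ (U : X.affineOpens) (m : Γ(B, U.1)),
      (s ≫ q).app U.1 m = ((n + 1 : ℕ) : Γ(X, U.1)) • m := by
    intro U m
    change q.app U.1 (s.app U.1 m) = _
    rw [hs, hq]
    exact Alg.bwd_fwd _ _ _ m
  haveI : Mono (s ≫ q) := ClSub.Basis.mono_of_injective_affine (φ := s ≫ q) fun U a b hab => by
    rw [hgf, hgf] at hab
    exact (hu U).smul_left_cancel.1 hab
  haveI : Epi (s ≫ q) := ClSub.Basis.epi_of_surjective_affine (φ := s ≫ q) fun U a => by
    obtain ⟨c, hc⟩ := hu U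
    exact ⟨(c⁻¹ : Γ(X, U.1)ˣ).1 • a, by rw [hgf, smul_smul, ← hc, Units.mul_inv, one_smul]⟩
  haveI : IsIso (s ≫ q) := isIso_of_mono_of_epi _
  exact ⟨s, q ≫ inv (s ≫ q), by rw [← Category.assoc, IsIso.hom_inv_id]⟩

end Groth.Agent.Lib.ExtRetract89.Basic
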